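import Cfsg.Agent.Fischer920.Theta
import Cfsg.Agent.S0444

set_option autoImplicit false

/-!
# The normalizer of the product of two non-commuting 3-transpositions

`F : FGroup D`, `a, b ∈ D` not commuting.
* `inv_three` : a member of `D` inverting `a b` is one of `a`, `b`, `a b a`;
* `comm_of_comm_mul` : a member of `D` commuting with `a b` commutes with `a` and `b`;
* `sup_eq_normalizer` : `N_G(⟨a b⟩) = ⟨a, b⟩ × C_G({a, b})`;
* `cent_eq` : `C_G(a b) = ⟨a b⟩ C_G({a, b})`;
* `exists_conj` : transitivity on the ordered pairs of non-commuting members.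
-/

namespace Cfsg.Agent.H840.NormX

open Cfsg Cfsg.Agent.SporadicStructure.FischerSpace
open Cfsg.Agent.Fischer480.Defs (FGroup Com)

universe u

variable {G : Type u} [Group G] {D : Set G}

section basic

/-- the data of a class of 3-transpositions -/
theorem fd (F : FGroup D) : FData D := fdata_of_class F.cls

theorem mul_sq (h : FData D) {x : G} (hx : x ∈ D) : x * x = 1 := h.sq x hx

/-- the third member of the line -/
theorem third_mem (h : FData D) {a b : G} (ha : a ∈ D) (hb : b ∈ D) : a * b * a ∈ D := h.conj' ha hb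

/-- `(a b)⁻¹ = b a` -/
theorem inv_mul (h : FData D) {a b : G} (ha : a ∈ D) (hb : b ∈ D) : (a * b)⁻¹ = b * a := by
  rw [mul_inv_rev, h.inv_eq ha, h.inv_eq hb]

/-- `(a b)³ = 1` -/
theorem cube (h : FData D) {a b : G} (ha : a ∈ D) (hb : b ∈ D) (hn : ¬ Commute a b) : (a * b) ^ 3 = 1 := by
  have hbr := h.braid a ha b hb hn
  calc (a * b) ^ 3 = (a * b * a) * (b * a * b) := by simp only [pow_succ, pow_zero, one_mul, mul_assoc]
    _ = (b * a * b) * (b * a * b) := by rw [hbr]
    _ = b * a * (b * b) * a * b := by simp only [mul_assoc]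
    _ = b * (a * a) * b := by rw [h.sq b hb, mul_one]; simp only [mul_assoc]
    _ = 1 := by rw [h.sq a ha, mul_one, h.sq b hb]

/-- `a b ≠ b a` in the form `a b ≠ (a b)⁻¹` -/
theorem ne_inv (h : FData D) {a b : G} (ha : a ∈ D) (hb : b ∈ D) (hn : ¬ Commute a b) : a * b ≠ (a * b)⁻¹ := by
  rw [inv_mul h ha hb]
  exact hn

theorem orderOf_mul (h : FData D) {a b : G} (ha : a ∈ D) (hb : b ∈ D) (hn : ¬ Commute a b) :
    orderOf (a * b) = 3 := by
  apply orderOf_eq_prime (cube h ha hb hn)
  intro h1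
  apply ne_inv h ha hb hn
  rw [h1, inv_one]

/-- a member of `D` inverting `a b` commutes with all members of `D_a ∩ D_b` -/
theorem comm_of_inv (h : FData D) {a b t z : G} (ha : a ∈ D) (hb : b ∈ D) (ht : t ∈ D) (hz : z ∈ D)
    (hn : ¬ Commute a b) (hza : Commute z a) (hzb : Commute z b) (hi : t * (a * b) * t⁻¹ = (a * b)⁻¹) :
    Commute z t := by
  by_contra hc
  have h3 : (z * t) ^ 3 = 1 := cube h hz ht hc
  have hzu : Commute z (a * b) := hza.mul_right hzb
  have hne := ne_inv h ha hb hn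
  set u := a * b with hu
  have h4 : (z * t) * u * (z * t)⁻¹ = u⁻¹ := by
    calc (z * t) * u * (z * t)⁻¹ = z * (t * u * t⁻¹) * z⁻¹ := by group
      _ = z * u⁻¹ * z⁻¹ := by rw [hi]
      _ = u⁻¹ := by rw [hzu.inv_right.eq, mul_inv_cancel_right]
  have h5 : ∀ v : G, (z * t) * v⁻¹ * (z * t)⁻¹ = ((z * t) * v * (z * t)⁻¹)⁻¹ := fun v => by group
  apply hne
  calc u = (z * t) ^ 3 * u * ((z * t) ^ 3)⁻¹ := by rw [h3]; group
    _ = (z * t) * ((z * t) * ((z * t) * u * (z * t)⁻¹) * (z * t)⁻¹) * (z * t)⁻¹ := by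
        simp only [pow_succ, pow_zero, one_mul]; group
    _ = u⁻¹ := by rw [h4, h5, h4, inv_inv, h4]

/-- `a` inverts `a b` -/
theorem left_inverts (h : FData D) {a b : G} (ha : a ∈ D) (hb : b ∈ D) : a * (a * b) * a⁻¹ = (a * b)⁻¹ := by
  rw [inv_mul h ha hb, h.inv_eq ha, ← mul_assoc, h.sq a ha, one_mul]

/-- `b` inverts `a b` -/
theorem right_inverts (h : FData D) {a b : G} (ha : a ∈ D) (hb : b ∈ D) : b * (a * b) * b⁻¹ = (a * b)⁻¹ := by
  rw [inv_mul h ha hb]
  group

/-- a member of `D` commuting with `a` and `b` does not invert `a b` -/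
theorem not_both (h : FData D) {a b t : G} (ha : a ∈ D) (hb : b ∈ D) (hn : ¬ Commute a b)
    (hi : t * (a * b) * t⁻¹ = (a * b)⁻¹) (hta : Commute t a) (htb : Commute t b) : False := by
  apply ne_inv h ha hb hn
  have h1 : Commute t (a * b) := hta.mul_right htb
  rw [← hi, h1.eq, mul_inv_cancel_right]

end basic

section main

variable [Finite G]

/-- **Three members of `D` invert `a b`.** -/
theorem inv_three (F : FGroup D) {a b t : G} (ha : a ∈ D) (hb : b ∈ D) (ht : t ∈ D) (hn : ¬ Commute a b)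
    (hi : t * (a * b) * t⁻¹ = (a * b)⁻¹) : t = a ∨ t = b ∨ t = a * b * a := by
  have h := fd F
  have hc : ∀ z ∈ D, Commute z a → Commute z b → Commute z t := fun z hz h1 h2 =>
    comm_of_inv h ha hb ht hz hn h1 h2 hi
  have hbr := h.braid a ha b hb hn
  by_cases hta : Commute a t
  · have htb : ¬ Commute b t := fun h2 => not_both h ha hb hn hi hta.symm h2.symm
    rcases Fischer920.Theta.theta F b hb a ha (fun h2 => hn h2.symm) t ht htb
      (fun z hz h1 h2 => hc z hz h2 h1) with h1 | h1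
    · exact Or.inl h1
    · exact Or.inr (Or.inr (by rw [h1, hbr]))
  · rcases Fischer920.Theta.theta F a ha b hb hn t ht hta hc with h1 | h1
    · exact Or.inr (Or.inl h1)
    · exact Or.inr (Or.inr h1)

/-- **A member of `D` commuting with `a b` commutes with `a` and `b`.** -/
theorem comm_of_comm_mul (F : FGroup D) {a b z : G} (ha : a ∈ D) (hb : b ∈ D) (hz : z ∈ D)
    (hn : ¬ Commute a b) (hzu : Commute z (a * b)) : Commute z a ∧ Commute z b := by
  have h := fd F
  have hbr := h.braid a ha b hb hn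
  have h1 : (z * a * z⁻¹) * (a * b) * (z * a * z⁻¹)⁻¹ = (a * b)⁻¹ := by
    have h2 : z⁻¹ * (a * b) * z = a * b := by
      rw [mul_assoc, ← hzu.eq, inv_mul_cancel_left]
    calc (z * a * z⁻¹) * (a * b) * (z * a * z⁻¹)⁻¹ = z * (a * (z⁻¹ * (a * b) * z) * a⁻¹) * z⁻¹ := by group
      _ = z * (a * b)⁻¹ * z⁻¹ := by rw [h2, left_inverts h ha hb]
      _ = (a * b)⁻¹ := by rw [hzu.inv_right.eq, mul_inv_cancel_right]
  have hza : Commute z a := by
    by_contra hc
    rcases inv_three F ha hb (h.conj z a ha) hn h1 with h2 | h2 | h2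
    · exact hc (mul_inv_eq_iff_eq_mul.1 h2)
    · have h3 : z * b * z⁻¹ = a := by
        rw [← h2, h.inv_eq hz]
        exact h.conj_conj hz a
      have h4 : b * a = a * b := by
        have h5 : z * (a * b) * z⁻¹ = a * b := by rw [hzu.eq, mul_inv_cancel_right]
        rw [← h5]
        calc b * a = (z * a * z⁻¹) * (z * b * z⁻¹) := by rw [h2, h3]
          _ = z * (a * b) * z⁻¹ := by group
      exact hn h4.symm
    · have h5 : z * (a * b) * z⁻¹ = a * b := by rw [hzu.eq, mul_inv_cancel_right]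
      have h3 : z * b * z⁻¹ = a := by
        have h6 : (z * a * z⁻¹) * (z * b * z⁻¹) = a * b := by rw [← h5]; group
        rw [h2] at h6
        have h7 : (a * b * a) * a = a * b := by rw [mul_assoc, h.sq a ha, mul_one]
        exact mul_left_cancel (h6.trans h7.symm)
      have h6 : z * a * z⁻¹ = b := by
        rw [← h3, h.inv_eq hz]
        exact h.conj_conj hz b
      rw [h2] at h6
      apply hn
      show a * b = b * a
      calc a * b = a * b * a * a := by rw [mul_assoc (a * b), h.sq a ha, mul_one]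
        _ = b * a := by rw [h6]
  refine ⟨hza, ?_⟩
  have h2 : Commute z (a⁻¹ * (a * b)) := hza.inv_right.mul_right hzu
  rwa [inv_mul_cancel_left] at h2

/-- the members of `D` commuting with `a b` -/
theorem inter_cent (F : FGroup D) {a b : G} (ha : a ∈ D) (hb : b ∈ D) (hn : ¬ Commute a b) :
    D ∩ (Subgroup.centralizer ({a * b} : Set G) : Set G) = Com D a b := by
  ext z
  constructor
  · rintro ⟨hz, h1⟩
    rw [SetLike.mem_coe, Subgroup.mem_centralizer_singleton_iff] at h1
    have h2 : Commute z (a * b) := h1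
    obtain ⟨h3, h4⟩ := comm_of_comm_mul F ha hb hz hn h2
    exact ⟨hz, h3.symm, h4.symm⟩
  · rintro ⟨hz, h1, h2⟩
    refine ⟨hz, ?_⟩
    rw [SetLike.mem_coe, Subgroup.mem_centralizer_singleton_iff]
    exact (h1.symm.mul_right h2.symm).eq

omit [Finite G] in
theorem mem_cent_pair {a b g : G} : g ∈ Subgroup.centralizer ({a, b} : Set G) ↔ Commute a g ∧ Commute b g := by
  rw [Subgroup.mem_centralizer_iff]
  constructor
  · intro h
    exact ⟨h a (by simp), h b (by simp)⟩
  · rintro ⟨h1, h2⟩ x hx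
    rcases hx with rfl | hx
    · exact h1
    · rw [Set.mem_singleton_iff] at hx
      subst hx
      exact h2

omit [Finite G] in
theorem a_mem (a b : G) : a ∈ Subgroup.closure ({a, b} : Set G) := Subgroup.subset_closure (by simp)

omit [Finite G] in
theorem b_mem (a b : G) : b ∈ Subgroup.closure ({a, b} : Set G) := Subgroup.subset_closure (by simp)

/-- elements centralizing `a b` -/
theorem cent_mul (F : FGroup D) {a b g : G} (ha : a ∈ D) (hb : b ∈ D) (hn : ¬ Commute a b)
    (hg : Commute g (a * b)) : ∃ x ∈ Subgroup.zpowers (a * b), ∃ y ∈ Subgroup.centralizer ({a, b} : Set G),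
      g = x * y := by
  have h := fd F
  have hbr := h.braid a ha b hb hn
  have h3 := cube h ha hb hn
  -- the conjugate of `a` inverts `a b`
  have h1 : (g * a * g⁻¹) * (a * b) * (g * a * g⁻¹)⁻¹ = (a * b)⁻¹ := by
    have h2 : g⁻¹ * (a * b) * g = a * b := by
      rw [mul_assoc, ← hg.eq, inv_mul_cancel_left]
    calc (g * a * g⁻¹) * (a * b) * (g * a * g⁻¹)⁻¹ = g * (a * (g⁻¹ * (a * b) * g) * a⁻¹) * g⁻¹ := by group
      _ = g * (a * b)⁻¹ * g⁻¹ := by rw [h2, left_inverts h ha hb]
      _ = (a * b)⁻¹ := by rw [hg.inv_right.eq, mul_inv_cancel_right]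
  have hx : ∃ x ∈ Subgroup.zpowers (a * b), g * a * g⁻¹ = x * a * x⁻¹ := by
    rcases inv_three F ha hb (h.conj g a ha) hn h1 with h2 | h2 | h2
    · exact ⟨1, Subgroup.one_mem _, by rw [h2]; group⟩
    · refine ⟨a * b, Subgroup.mem_zpowers _, ?_⟩
      rw [h2, inv_mul h ha hb]
      calc b = (a * b * a) * (a * b * a) * b := by
            rw [h.sq _ (third_mem h ha hb), one_mul]
        _ = (a * b * a) * (a * b * a * b) := by group
        _ = (a * b * a) * (b * a * b * b) := by rw [hbr]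
        _ = (a * b * a) * (b * a) := by rw [mul_assoc (b * a), h.sq b hb, mul_one]
        _ = a * b * a * (b * a) := rfl
    · refine ⟨(a * b) ^ 2, Subgroup.pow_mem _ (Subgroup.mem_zpowers _) 2, ?_⟩
      have h4 : ((a * b) ^ 2)⁻¹ = a * b := by
        apply inv_eq_of_mul_eq_one_left
        rw [← pow_succ', h3]
      rw [h2, h4]
      calc a * b * a = (a * b) ^ 3 * (a * b * a) := by rw [h3, one_mul]
        _ = (a * b) ^ 2 * a * (b * (a * b * a)) := by simp only [pow_succ, pow_zero, one_mul, mul_assoc]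
        _ = (a * b) ^ 2 * a * (b * (b * a * b)) := by rw [hbr]
        _ = (a * b) ^ 2 * a * ((b * b) * a * b) := by simp only [mul_assoc]
        _ = (a * b) ^ 2 * a * (a * b) := by rw [h.sq b hb, one_mul]
  obtain ⟨x, hx, hx'⟩ := hx
  refine ⟨x, hx, x⁻¹ * g, ?_, by group⟩
  rw [mem_cent_pair]
  have hxc : Commute x (a * b) := by
    obtain ⟨n, rfl⟩ := Subgroup.mem_zpowers_iff.1 hx
    exact (Commute.refl (a * b)).zpow_left n
  have h5 : Commute (x⁻¹ * g) a := by
    show x⁻¹ * g * a = a * (x⁻¹ * g)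
    calc x⁻¹ * g * a = x⁻¹ * (g * a * g⁻¹) * g := by group
      _ = x⁻¹ * (x * a * x⁻¹) * g := by rw [hx']
      _ = a * (x⁻¹ * g) := by group
  have h6 : Commute (x⁻¹ * g) (a * b) := hxc.inv_left.mul_left hg
  refine ⟨h5.symm, ?_⟩
  have h7 : Commute (x⁻¹ * g) (a⁻¹ * (a * b)) := h5.inv_right.mul_right h6
  rw [inv_mul_cancel_left] at h7
  exact h7.symm

/-- **`N_G(⟨a b⟩) = ⟨a, b⟩ C_G({a, b})`.** -/
theorem sup_eq_normalizer (F : FGroup D) {a b : G} (ha : a ∈ D) (hb : b ∈ D) (hn : ¬ Commute a b) :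
    Subgroup.closure ({a, b} : Set G) ⊔ Subgroup.centralizer ({a, b} : Set G) =
      Subgroup.normalizer ((Subgroup.zpowers (a * b) : Subgroup G) : Set G) := by
  have h := fd F
  have h3 := cube h ha hb hn
  have ho := orderOf_mul h ha hb hn
  have hu : a * b ∈ Subgroup.zpowers (a * b) := Subgroup.mem_zpowers _
  have key : ∀ g : G, (g * (a * b) * g⁻¹ = a * b ∨ g * (a * b) * g⁻¹ = (a * b)⁻¹) →
      g ∈ Subgroup.normalizer ((Subgroup.zpowers (a * b) : Subgroup G) : Set G) := by
    intro g hg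
    have h1 : (Subgroup.zpowers (a * b)).map (MulAut.conj g).toMonoidHom ≤ Subgroup.zpowers (a * b) := by
      rw [MonoidHom.map_zpowers, Subgroup.zpowers_le]
      show g * (a * b) * g⁻¹ ∈ _
      rcases hg with hg | hg
      · rw [hg]; exact hu
      · rw [hg]; exact Subgroup.inv_mem _ hu
    rw [Subgroup.mem_normalizer_iff]
    intro x
    constructor
    · intro hx
      exact h1 ⟨x, hx, rfl⟩
    · intro hx
      have h2 : (Subgroup.zpowers (a * b)).map (MulAut.conj g).toMonoidHom = Subgroup.zpowers (a * b) := by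
        apply Subgroup.eq_of_le_of_card_ge h1
        rw [Subgroup.card_map_of_injective (MulAut.conj g).injective]
      rw [← h2] at hx
      obtain ⟨y, hy, hy'⟩ := hx
      have : y = x := by
        have h4 : g * y * g⁻¹ = g * x * g⁻¹ := hy'
        exact mul_left_cancel (mul_right_cancel h4)
      rw [← this]
      exact hy
  apply le_antisymm
  · rw [sup_le_iff]
    constructor
    · rw [Subgroup.closure_le]
      rintro x (rfl | hx)
      · exact key _ (Or.inr (left_inverts h ha hb))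
      · rw [Set.mem_singleton_iff] at hx
        subst hx
        exact key _ (Or.inr (right_inverts h ha hb))
    · intro g hg
      rw [mem_cent_pair] at hg
      apply key
      left
      have : Commute g (a * b) := hg.1.symm.mul_right hg.2.symm
      rw [this.eq, mul_inv_cancel_right]
  · intro g hg
    have hX : ∀ x ∈ Subgroup.zpowers (a * b), x = 1 ∨ x = a * b ∨ x = (a * b)⁻¹ := by
      intro x hx
      rw [Subgroup.mem_zpowers_iff] at hx
      obtain ⟨n, rfl⟩ := hx
      have h4 : (a * b) ^ n = (a * b) ^ (n % 3) := by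
        have := zpow_mod_orderOf (a * b) n
        rw [ho] at this
        exact this.symm
      have h5 : n % 3 = 0 ∨ n % 3 = 1 ∨ n % 3 = 2 := by omega
      rw [h4]
      rcases h5 with h5 | h5 | h5
      · left; rw [h5, zpow_zero]
      · right; left; rw [h5, zpow_one]
      · right; right
        rw [h5]
        apply eq_inv_of_mul_eq_one_left
        rw [show (2 : ℤ) = ((2 : ℕ) : ℤ) from rfl, zpow_natCast, ← pow_succ, h3]
    have hg1 : g * (a * b) * g⁻¹ ∈ Subgroup.zpowers (a * b) :=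
      (Subgroup.mem_normalizer_iff.1 hg (a * b)).1 hu
    have hc : ∀ g' : G, g' * (a * b) * g'⁻¹ = a * b →
        g' ∈ Subgroup.closure ({a, b} : Set G) ⊔ Subgroup.centralizer ({a, b} : Set G) := by
      intro g' hg'
      obtain ⟨x, hx, y, hy, rfl⟩ := cent_mul F ha hb hn (mul_inv_eq_iff_eq_mul.1 hg')
      apply Subgroup.mul_mem_sup _ hy
      have h6 : Subgroup.zpowers (a * b) ≤ Subgroup.closure ({a, b} : Set G) := by
        rw [Subgroup.zpowers_le]
        exact Subgroup.mul_mem _ (a_mem a b) (b_mem a b)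
      exact h6 hx
    rcases hX _ hg1 with h4 | h4 | h4
    · exfalso
      have h5 : a * b = 1 := by
        have := mul_inv_eq_one.1 h4
        have h6 : g * (a * b) = g * 1 := by rw [this, mul_one]
        exact mul_left_cancel h6
      apply ne_inv h ha hb hn
      rw [h5, inv_one]
    · exact hc g h4
    · have h5 : a * g ∈ Subgroup.closure ({a, b} : Set G) ⊔ Subgroup.centralizer ({a, b} : Set G) := by
        apply hc
        calc a * g * (a * b) * (a * g)⁻¹ = a * (g * (a * b) * g⁻¹) * a⁻¹ := by group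
          _ = (a * (a * b) * a⁻¹)⁻¹ := by rw [h4]; group
          _ = a * b := by rw [left_inverts h ha hb, inv_inv]
      have h6 : g = a⁻¹ * (a * g) := by group
      rw [h6]
      exact Subgroup.mul_mem _ (Subgroup.inv_mem _ (Subgroup.mem_sup_left (a_mem a b))) h5

omit [Finite G] in
/-- the subgroups `⟨a, b⟩` and `C_G({a, b})` centralize each other -/
theorem commute_pair {a b : G} : ∀ x ∈ Subgroup.closure ({a, b} : Set G),
    ∀ y ∈ Subgroup.centralizer ({a, b} : Set G), x * y = y * x := by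
  intro x hx y hy
  rw [mem_cent_pair] at hy
  have h1 : Subgroup.closure ({a, b} : Set G) ≤ Subgroup.centralizer ({y} : Set G) := by
    rw [Subgroup.closure_le]
    rintro z (rfl | hz)
    · rw [SetLike.mem_coe, Subgroup.mem_centralizer_singleton_iff]; exact hy.1
    · rw [Set.mem_singleton_iff] at hz
      subst hz
      rw [SetLike.mem_coe, Subgroup.mem_centralizer_singleton_iff]; exact hy.2
  exact Subgroup.mem_centralizer_singleton_iff.1 (h1 hx)

omit [Finite G] in
/-- `⟨a, b⟩ ≅ S₃` -/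
theorem equiv_perm (F : FGroup D) {a b : G} (ha : a ∈ D) (hb : b ∈ D) (hn : ¬ Commute a b) :
    Nonempty (↥(Subgroup.closure ({a, b} : Set G)) ≃* Equiv.Perm (Fin 3)) :=
  Cfsg.Agent.S0444.result F.cls.1 ha hb hn

omit [Finite G] in
/-- `⟨a, b⟩ ⊓ C_G({a, b}) = ⊥` -/
theorem inf_eq_bot (F : FGroup D) {a b : G} (ha : a ∈ D) (hb : b ∈ D) (hn : ¬ Commute a b) :
    Subgroup.closure ({a, b} : Set G) ⊓ Subgroup.centralizer ({a, b} : Set G) = ⊥ := by
  obtain ⟨e⟩ := equiv_perm F ha hb hn
  rw [eq_bot_iff]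
  rintro x ⟨hx, hy⟩
  have h1 : ∀ z : ↥(Subgroup.closure ({a, b} : Set G)), z * ⟨x, hx⟩ = ⟨x, hx⟩ * z := by
    intro z
    apply Subtype.ext
    exact commute_pair z.1 z.2 x hy
  have h2 : ∀ σ : Equiv.Perm (Fin 3), σ * e ⟨x, hx⟩ = e ⟨x, hx⟩ * σ := by
    intro σ
    obtain ⟨z, rfl⟩ := e.surjective σ
    rw [← map_mul, h1, map_mul]
  have h3 : ∀ τ : Equiv.Perm (Fin 3), (∀ σ, σ * τ = τ * σ) → τ = 1 := by decide
  have h4 := h3 _ h2
  rw [MulEquiv.map_eq_one_iff] at h4
  rw [Subgroup.mem_bot]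
  exact congrArg Subtype.val h4

/-- transitivity on the ordered pairs of non-commuting members -/
theorem exists_conj (F : FGroup D) {a b a' b' : G} (ha : a ∈ D) (hb : b ∈ D) (ha' : a' ∈ D) (hb' : b' ∈ D)
    (hn : ¬ Commute a b) (hn' : ¬ Commute a' b') : ∃ g : G, g * a * g⁻¹ = a' ∧ g * b * g⁻¹ = b' := by
  have h := fd F
  obtain ⟨k, hk⟩ := h.single a ha a' ha'
  have hkb := h.conj k b hb
  have hn2 : ¬ Commute a' (k * b * k⁻¹) := by
    rw [← hk, Cfsg.Agent.SporadicStructure.FischerSpace.FData.commute_conj_gen]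
    exact hn
  obtain ⟨g, hg1, hg2⟩ := Cfsg.Agent.SporadicStructure.FischerRank3.col_trans h F.sol F.perf ha' hkb hb' hn2 hn'
  refine ⟨g * k, ?_, ?_⟩
  · calc g * k * a * (g * k)⁻¹ = g * (k * a * k⁻¹) * g⁻¹ := by group
      _ = a' := by rw [hk, hg1]
  · calc g * k * b * (g * k)⁻¹ = g * (k * b * k⁻¹) * g⁻¹ := by group
      _ = b' := hg2

end main

end Cfsg.Agent.H840.NormX
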