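import Cfsg.Agent.H840.Lk
import Cfsg.Prelude.Def_FischerSpaces

/-!
# `Fi24`: `C(l, k)` is generated by transpositions; its width

* `closure_Dlk` : `C(l, k) = ⟨Dlk⟩`;
* `width` : at most (and exactly) 8 pairwise commuting transpositions commute with `l` and `k`.
-/

set_option autoImplicit false
set_option maxRecDepth 100000
set_option exponentiation.threshold 30000

namespace Cfsg.Agent.H840.Width

open Cfsg Cfsg.Agent.Lib.PermNet Cfsg.Agent.Lib.PermNetPt
open Cfsg.Agent.Fischer.Fi24RepDef Cfsg.Agent.Fischer.Fi24Rep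
open Cfsg.Agent.Fischer.Fi24Spider (word_append word_cons word_nil s8 node8)
open Cfsg.Agent.Fischer.Y322
open Cfsg.Agent.Fischer.O73 (mO mM B V7 mO_congr conj_mO Q_mat mat mat_mO mat_mul mM_mulVec B_smul B_add B_neg B_comm
  B_self root_q Q_toFun root Ix)
open Cfsg.Agent.KFacts.FiTF.Pts Cfsg.Agent.KFacts.FiTF.FixMask
open Cfsg.Agent.KFacts.FiTF.Defs (tr)
open Cfsg.Agent.R08.FiTwentyFour (L)
open Cfsg.Agent.H840.Wd Cfsg.Agent.H840.LkK Cfsg.Agent.H840.Lk
open Cfsg.Spor (Fi24 coxLabel)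
open Cfsg.Spor.Fi24 (Gen edges)
open Subgroup
open scoped Matrix

/-! ### Generation -/

theorem B8_le : B8 ≤ closure Dlk := by
  apply cl_le
  intro x hx
  apply Subgroup.subset_closure
  rw [mem_Dlk]
  exact ⟨Lk.gen_mem x, B8_le_Clk (gen_mem_cl hx)⟩

/-- **`C(l, k)` is generated by its transpositions.** -/
theorem closure_Dlk : closure Dlk = Clk := by
  have := Cfsg.Agent.R08.FiTwentyFour.finite_Fi24
  have hle : closure Dlk ≤ Clk := by
    rw [closure_le]
    intro d hd
    exact (mem_Dlk.1 hd).2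
  have hK : ∀ {d}, d ∈ Dlk → d ∈ closure Dlk := fun h => Subgroup.subset_closure h
  have tr2 : ∀ {x y z : Fi24}, (∃ g ∈ closure Dlk, g * x * g⁻¹ = y) → (∃ g ∈ closure Dlk, g * y * g⁻¹ = z) →
      ∃ g ∈ closure Dlk, g * x * g⁻¹ = z := by
    rintro x y z ⟨g, hg, rfl⟩ ⟨h, hh, rfl⟩
    exact ⟨h * g, (closure Dlk).mul_mem hh hg, by group⟩
  have up : ∀ {x y : Fi24}, (∃ g ∈ B8, g * x * g⁻¹ = y) → ∃ g ∈ closure Dlk, g * x * g⁻¹ = y :=
    fun ⟨g, hg, h⟩ => ⟨g, B8_le hg, h⟩
  have h1 : ∃ g ∈ closure Dlk, g * zc * g⁻¹ = gen .j :=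
    conj_of_nc zc_mem (Lk.gen_mem _) nc_zj (hK zc_Dlk) (hK j_Dlk)
  have h2 : ∃ g ∈ closure Dlk, g * zc * g⁻¹ = c2 := conj_of_nc zc_mem c2_mem nc_zc2 (hK zc_Dlk) (hK c2_Dlk)
  have h3 : ∃ g ∈ closure Dlk, g * c2 * g⁻¹ = gen .b :=
    conj_of_nc c2_mem (Lk.gen_mem _) (fun h => nc_bc2 h.symm) (hK c2_Dlk) (hK b_Dlk)
  have hO : ({x | ∃ y ∈ closure Dlk, y * zc * y⁻¹ = x} : Set Fi24) = Dlk := by
    ext x
    constructor
    · rintro ⟨y, hy, rfl⟩
      exact Dlk_conj (hle hy) zc_Dlk
    · intro hx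
      rcases Dlk_cases hx with rfl | h | h | h
      · exact ⟨1, one_mem _, by group⟩
      · exact tr2 h2 (tr2 h3 (up h))
      · exact tr2 h1 (up h)
      · exact tr2 h2 (up h)
  have h4 := card_conj (closure Dlk) zc
  rw [hO, ncard_Dlk] at h4
  have h5 : B8 ≤ closure Dlk ⊓ centralizer ({zc} : Set Fi24) :=
    le_inf B8_le fun g hg => mem_centralizer_singleton_iff.2 (B8_comm_zc hg)
  have h6 := Subgroup.card_le_of_le h5
  rw [card_B8] at h6
  apply Subgroup.eq_of_le_of_card_ge hle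
  rw [card_Clk, h4]
  omega

/-! ### Commuting transpositions of `C(l, k, zc)` and orthogonal vectors -/

/-- an element of `⟨b, …, i⟩` is `phi h` or `zc phi h` -/
theorem B8_cases {g : Fi24} (hg : g ∈ B8) : ∃ h : H8, g = phi h ∨ g = zc * phi h := by
  have key : B8 ≤ (
    { carrier := {g | g ∈ B8 ∧ ∃ h : H8, g = phi h ∨ g = zc * phi h}
      mul_mem' := by
        rintro a b ⟨ha, h, hh⟩ ⟨hb, k, hk⟩
        refine ⟨B8.mul_mem ha hb, h * k, ?_⟩
        have hc : phi h * zc = zc * phi h := B8_comm_zc (phi_mem h)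
        rcases hh with rfl | rfl <;> rcases hk with rfl | rfl
        · left; rw [map_mul]
        · right; rw [map_mul, ← mul_assoc, hc, mul_assoc]
        · right; rw [map_mul, mul_assoc]
        · left
          rw [map_mul]
          calc zc * phi h * (zc * phi k) = zc * (phi h * zc) * phi k := by simp only [mul_assoc]
            _ = zc * zc * (phi h * phi k) := by rw [hc]; simp only [mul_assoc]
            _ = phi h * phi k := by rw [zc_sq, one_mul]
      one_mem' := ⟨B8.one_mem, 1, Or.inl (map_one phi).symm⟩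
      inv_mem' := by
        rintro a ⟨ha, h, hh⟩
        refine ⟨B8.inv_mem ha, h⁻¹, ?_⟩
        rcases hh with rfl | rfl
        · left; rw [map_inv]
        · right
          have hc : phi h⁻¹ * zc = zc * phi h⁻¹ := B8_comm_zc (phi_mem h⁻¹)
          rw [mul_inv_rev, inv_eq_of_mul_eq_one_left zc_sq, ← map_inv, hc] } : Subgroup Fi24) := by
    apply cl_le
    intro x hx
    obtain ⟨k, hk⟩ := mem_AL hx
    refine ⟨gen_mem_cl hx, x8 k, Or.inr ?_⟩
    rw [phi_x8, ← hk]
    show s8 k = zc * (zc * s8 k)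
    rw [← mul_assoc, zc_sq, one_mul]
  exact (key hg).2

theorem injective_toO : Function.Injective toO := by
  refine Cfsg.Agent.Fischer.Y322Iso.injective_of_ne toO ⟨x8 0, ?_⟩
  rw [toO_x8]
  intro h
  have h1 : Cfsg.Agent.Fischer.O73.gen 0 * Cfsg.Agent.Fischer.O73.gen 1 =
      Cfsg.Agent.Fischer.O73.gen 1 * Cfsg.Agent.Fischer.O73.gen 0 := by rw [h, one_mul, mul_one]
  exact gen01_ne h1

/-- the vector of a transposition: `zc d = phi y`, `toO y = - r_v` -/
def IsVec (d : Fi24) (v : Ix → ZMod 3) : Prop :=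
  ∃ (y : H8) (hv : Cfsg.Agent.Fischer.O73.Q v = -1), zc * d = phi y ∧ toO y = mO v hv

theorem exists_vec {d : Fi24} (hd : d ∈ Dlk) (hz : Commute d zc) (hne : d ≠ zc) : ∃ v, IsVec d v := by
  have key : ∀ {x : Fi24} {g : Fi24}, g ∈ B8 → Commute (g * x * g⁻¹) zc → Commute zc x := by
    intro x g hg h
    have h1 : Commute g⁻¹ zc := B8_comm_zc (B8.inv_mem hg)
    have h2 : Commute (g⁻¹ * (g * x * g⁻¹) * g) zc := (h1.mul_left h).mul_left (B8_comm_zc hg)
    have e : g⁻¹ * (g * x * g⁻¹) * g = x := by group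
    rw [e] at h2
    exact h2.symm
  rcases Dlk_cases hd with h | ⟨g, hg, hgd⟩ | ⟨g, hg, rfl⟩ | ⟨g, hg, rfl⟩
  · exact absurd h hne
  · obtain ⟨h, hh⟩ := B8_cases hg
    have hq : Cfsg.Agent.Fischer.O73.Q (mat (toO h) *ᵥ (root 0).toFun) = -1 :=
      (Q_mat (toO h) _).trans ((Q_toFun _).trans (root_q 0))
    refine ⟨_, h * x8 0 * h⁻¹, hq, ?_, ?_⟩
    · rw [map_mul, map_mul, map_inv, phi_x8]
      have e0 : gen .b = s8 0 := rfl
      have h1 : zc * d = zc * (phi h * s8 0 * (phi h)⁻¹) := by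
        congr 1
        rw [← hgd, e0]
        rcases hh with rfl | rfl
        · rfl
        · have h2 : zc * (phi h * s8 0 * (phi h)⁻¹) * zc⁻¹ = phi h * s8 0 * (phi h)⁻¹ := by
            rw [mul_inv_eq_iff_eq_mul]
            exact (B8_comm_zc (B8.mul_mem (B8.mul_mem (phi_mem h) (s8_mem 0)) (B8.inv_mem (phi_mem h)))).symm
          rw [← h2]
          group
      rw [h1]
      have h3 : phi h * zc = zc * phi h := B8_comm_zc (phi_mem h)
      show zc * (phi h * s8 0 * (phi h)⁻¹) = phi h * (zc * s8 0) * (phi h)⁻¹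
      calc zc * (phi h * s8 0 * (phi h)⁻¹) = (zc * phi h) * s8 0 * (phi h)⁻¹ := by simp only [mul_assoc]
        _ = (phi h * zc) * s8 0 * (phi h)⁻¹ := by rw [h3]
        _ = phi h * (zc * s8 0) * (phi h)⁻¹ := by simp only [mul_assoc]
    · rw [map_mul, map_mul, map_inv, toO_x8]
      exact conj_mO (toO h) _ _
  · exact absurd (key hg hz) nc_zj
  · exact absurd (key hg hz) nc_zc2

theorem mM_comm {v w : Ix → ZMod 3} (hv : Cfsg.Agent.Fischer.O73.Q v = -1)
    (h : mM v * mM w = mM w * mM v) (h1 : v ≠ w) (h2 : v ≠ -w) : B v w = 0 := by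
  by_contra hne
  have e1 : mM v *ᵥ (mM w *ᵥ v) = mM w *ᵥ (mM v *ᵥ v) := by
    rw [Matrix.mulVec_mulVec, Matrix.mulVec_mulVec, h]
  have hvv : B v v = -2 := by rw [B_self, hv]; ring
  have e2 : mM v *ᵥ v = v := by
    rw [mM_mulVec, hvv]
    have : (-2 : ZMod 3) = 1 := by decide
    ext i
    simp only [Pi.sub_apply, Pi.neg_apply, Pi.smul_apply, smul_eq_mul]
    have h3 : ∀ a : ZMod 3, -a - -2 * a = a := by decide
    exact h3 _
  rw [e2, mM_mulVec w v, mM_mulVec] at e1
  set c := B w v with hc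
  have hcv : B v w = c := B_comm v w
  have e3 : B v (-v - c • w) = 2 - c * c := by
    rw [sub_eq_add_neg, B_add, B_neg, B_neg, B_smul, hvv, hcv]
    ring
  rw [e3] at e1
  rw [hcv] at hne
  have hcc : c = 1 ∨ c = -1 := by
    have h3 : ∀ a : ZMod 3, a ≠ 0 → a = 1 ∨ a = -1 := by decide
    exact h3 c hne
  rcases hcc with h3 | h3
  · apply h1
    rw [h3] at e1
    funext i
    have h4 := congrFun e1 i
    simp only [Pi.sub_apply, Pi.neg_apply, Pi.smul_apply, smul_eq_mul] at h4
    have h5 : ∀ a b : ZMod 3, - (-a - 1 * b) - (2 - 1 * 1) * a = -a - 1 * b → a = b := by decide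
    exact h5 _ _ h4
  · apply h2
    rw [h3] at e1
    funext i
    have h4 := congrFun e1 i
    simp only [Pi.sub_apply, Pi.neg_apply, Pi.smul_apply, smul_eq_mul] at h4
    have h5 : ∀ a b : ZMod 3, - (-a - -1 * b) - (2 - -1 * -1) * a = -a - -1 * b → a = -b := by decide
    exact h5 _ _ h4

/-- commuting transpositions have orthogonal vectors -/
theorem ortho {d d' : Fi24} {v w : Ix → ZMod 3} (h : IsVec d v) (h' : IsVec d' w) (hc : Commute d d') (hne : d ≠ d') :
    B v w = 0 := by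
  obtain ⟨y, hv, hy, hy'⟩ := h
  obtain ⟨z, hw, hz, hz'⟩ := h'
  have e1 : d = zc * phi y := by rw [← hy, ← mul_assoc, zc_sq, one_mul]
  have e2 : d' = zc * phi z := by rw [← hz, ← mul_assoc, zc_sq, one_mul]
  have c1 : phi y * zc = zc * phi y := B8_comm_zc (phi_mem y)
  have c2 : phi z * zc = zc * phi z := B8_comm_zc (phi_mem z)
  have h1 : y * z = z * y := by
    apply phi_injective
    rw [map_mul, map_mul]
    have h2 : d * d' = d' * d := hc
    have e3 : phi y * phi z = d * d' := by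
      rw [e1, e2]
      calc phi y * phi z = (zc * zc) * (phi y * phi z) := by rw [zc_sq, one_mul]
        _ = zc * (zc * phi y) * phi z := by simp only [mul_assoc]
        _ = zc * (phi y * zc) * phi z := by rw [c1]
        _ = zc * phi y * (zc * phi z) := by simp only [mul_assoc]
    have e4 : phi z * phi y = d' * d := by
      rw [e1, e2]
      calc phi z * phi y = (zc * zc) * (phi z * phi y) := by rw [zc_sq, one_mul]
        _ = zc * (zc * phi z) * phi y := by simp only [mul_assoc]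
        _ = zc * (phi z * zc) * phi y := by rw [c2]
        _ = zc * phi z * (zc * phi y) := by simp only [mul_assoc]
    rw [e3, e4, h2]
  have h2 : mM v * mM w = mM w * mM v := by
    have h3 := congrArg toO h1
    rw [map_mul, map_mul, hy', hz'] at h3
    have h4 := congrArg mat h3
    rwa [mat_mul, mat_mul, mat_mO, mat_mO] at h4
  have hinj : ∀ {y z : H8}, toO y = toO z → y = z := by
    intro y z h
    exact injective_toO h
  have h3 : ¬ (v = w ∨ v = -w) := by
    intro h3
    apply hne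
    rw [e1, e2, hinj (hy'.trans ((mO_congr hv hw h3).trans hz'.symm))]
  exact mM_comm hv h2 (fun h => h3 (Or.inl h)) (fun h => h3 (Or.inr h))

/-- at most seven other transpositions -/
theorem ncard_le_seven {E : Set Fi24} (hE : E ⊆ Dlk) (hc : ∀ a ∈ E, ∀ b ∈ E, Commute a b) (hz : ∀ a ∈ E, Commute a zc)
    (hne : zc ∉ E) : E.ncard ≤ 7 := by
  classical
  have := Cfsg.Agent.R08.FiTwentyFour.finite_Fi24
  have h1 : ∀ a : ↥E, ∃ v, IsVec (a : Fi24) v := fun a =>
    exists_vec (hE a.2) (hz _ a.2) (fun h => hne (h ▸ a.2))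
  choose v hv using h1
  have hq : ∀ a, B (v a) (v a) = 1 := by
    intro a
    obtain ⟨y, hy, -⟩ := hv a
    rw [B_self, hy]
    decide
  have ho : ∀ a b, a ≠ b → B (v a) (v b) = 0 := fun a b hab =>
    ortho (hv a) (hv b) (hc _ a.2 _ b.2) (fun h => hab (Subtype.ext h))
  have hfin : Finite ↥E := Subtype.finite
  have := Fintype.ofFinite ↥E
  have hli : LinearIndependent (ZMod 3) v := by
    rw [Fintype.linearIndependent_iff]
    intro g hg a
    have h2 : B (v a) (∑ b, g b • v b) = 0 := by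
      rw [hg]
      have h3 := B_smul 0 (v a) 0
      rwa [zero_smul, zero_mul] at h3
    have h3 : ∀ s : Finset ↥E, B (v a) (∑ b ∈ s, g b • v b) = ∑ b ∈ s, g b * B (v a) (v b) := by
      intro s
      induction s using Finset.induction_on with
      | empty =>
        rw [Finset.sum_empty, Finset.sum_empty]
        have h3 := B_smul 0 (v a) 0
        rwa [zero_smul, zero_mul] at h3
      | insert b s hb ih => rw [Finset.sum_insert hb, Finset.sum_insert hb, B_add, B_smul, ih]
    rw [h3, Finset.sum_eq_single a] at h2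
    · rwa [hq, mul_one] at h2
    · intro b _ hb
      rw [ho a b (Ne.symm hb), mul_zero]
    · intro h
      exact absurd (Finset.mem_univ a) h
  have h4 := hli.fintype_card_le_finrank
  rw [Module.finrank_fintype_fun_eq_card] at h4
  have h5 : Fintype.card Ix = 7 := by decide
  rw [h5, ← Nat.card_eq_fintype_card, Nat.card_coe_set_eq] at h4
  exact h4

/-- **At most eight.** -/
theorem ncard_le_eight {E : Set Fi24} (hE : E ⊆ Dlk) (hc : ∀ a ∈ E, ∀ b ∈ E, Commute a b) : E.ncard ≤ 8 := by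
  have := Cfsg.Agent.R08.FiTwentyFour.finite_Fi24
  rcases E.eq_empty_or_nonempty with rfl | ⟨x, hx⟩
  · rw [Set.ncard_empty]
    norm_num
  obtain ⟨g, hg, hgx⟩ := Clk_trans (hE hx)
  set E' : Set Fi24 := (fun y => g⁻¹ * y * g) '' E with hE'
  have hinj : Function.Injective (fun y : Fi24 => g⁻¹ * y * g) := fun a b h => by
    have h1 : g⁻¹ * a * g = g⁻¹ * b * g := h
    exact mul_left_cancel (mul_right_cancel h1)
  have h1 : E'.ncard = E.ncard := Set.ncard_image_of_injective _ hinj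
  have hz : zc ∈ E' := ⟨x, hx, by rw [← hgx]; group⟩
  have h2 : E' ⊆ Dlk := by
    rintro _ ⟨y, hy, rfl⟩
    have h3 := Dlk_conj (Clk.inv_mem hg) (hE hy)
    rwa [inv_inv] at h3
  have h3 : ∀ a ∈ E', ∀ b ∈ E', Commute a b := by
    rintro _ ⟨a, ha, rfl⟩ _ ⟨b, hb, rfl⟩
    have h4 : a * b = b * a := hc a ha b hb
    show g⁻¹ * a * g * (g⁻¹ * b * g) = g⁻¹ * b * g * (g⁻¹ * a * g)
    calc g⁻¹ * a * g * (g⁻¹ * b * g) = g⁻¹ * (a * b) * g := by group
      _ = g⁻¹ * (b * a) * g := by rw [h4]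
      _ = g⁻¹ * b * g * (g⁻¹ * a * g) := by group
  have h4 := ncard_le_seven (E := E' \ {zc}) (fun a ha => h2 ha.1) (fun a ha b hb => h3 a ha.1 b hb.1)
    (fun a ha => h3 a ha.1 zc hz) (fun h => h.2 rfl)
  have h5 := Set.ncard_sdiff_singleton_add_one hz (Set.toFinite _)
  omega

/-! ### Eight commuting transpositions -/

/-- words and points of seven transpositions -/
def K7 : List (List Gen × Gen × ℕ) := [
    ([], .b, 193), ([], .d, 2914), ([], .f, 676), ([], .i, 176),
    ([.g, .f, .e, .d, .h, .i, .c, .d, .h, .e, .d, .c], .b, 1739),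
    ([.g, .f, .e, .d, .h, .i, .d, .h, .e, .f, .d, .e, .c, .d, .h, .g, .f, .e, .d, .c], .b, 7513),
    ([.g, .f, .e, .d, .h, .i, .f, .e, .c, .d, .h, .g, .f, .e, .d, .c], .b, 12813)]

noncomputable def allB (f : (List Gen × Gen × ℕ) → Bool) : List (List Gen × Gen × ℕ) → Bool
  | [] => true
  | p :: l => and (f p) (allB f l)

theorem allB_spec {f : (List Gen × Gen × ℕ) → Bool} {l : List (List Gen × Gen × ℕ)} (h : allB f l = true) :
    ∀ p ∈ l, f p = true := by
  induction l with
  | nil => intro p hp; exact absurd hp (by simp)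
  | cons q l ih =>
    have h' : and (f q) (allB f l) = true := h
    rw [Bool.and_eq_true] at h'
    intro p hp
    rcases List.mem_cons.1 hp with rfl | hp
    · exact h'.1
    · exact ih h'.2 p hp

theorem k7_pt : allB (fun p => chkPt (nw p.1 false) (pn p.2.1) p.2.2) K7 = true := by decide +kernel

theorem k7_lk : allB (fun p => and (chkPt (nw [.l] false) p.2.2 p.2.2) (and (chkPt (nw [.k] false) p.2.2 p.2.2)
    (chkPt (nw zw false) p.2.2 p.2.2))) K7 = true := by decide +kernel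

theorem k7_comm : allB (fun p => allB (fun q => chkPt (nw (p.1 ++ p.2.1 :: p.1.reverse) false) q.2.2 q.2.2) K7) K7 =
    true := by decide +kernel

theorem k7_nodup : (K7.map fun p => p.2.2).Nodup := by decide

theorem k7_23 : 23 ∉ (K7.map fun p => p.2.2) := by decide

/-- the transposition -/
def kt (p : List Gen × Gen × ℕ) : Fi24 := tr p.1 p.2.1

theorem kt_pt {p : List Gen × Gen × ℕ} (hp : p ∈ K7) : IsPt (kt p) p.2.2 := isPt_tr (allB_spec k7_pt p hp)

theorem kt_Dlk {p : List Gen × Gen × ℕ} (hp : p ∈ K7) : kt p ∈ Dlk := by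
  have h := allB_spec k7_lk p hp
  simp only [Bool.and_eq_true] at h
  exact ⟨(kt_pt hp).mem, (comm_iff_pt (kt_pt hp)).2 (rho_gen_of h.1), (comm_iff_pt (kt_pt hp)).2 (rho_gen_of h.2.1)⟩

theorem kt_zc {p : List Gen × Gen × ℕ} (hp : p ∈ K7) : Commute zc (kt p) := by
  have h := allB_spec k7_lk p hp
  simp only [Bool.and_eq_true] at h
  have h1 := rho_of_chkPt h.2.2
  rw [← zc_word] at h1
  exact ((kt_pt hp).comm_iff zc).2 h1

theorem kt_comm {p q : List Gen × Gen × ℕ} (hp : p ∈ K7) (hq : q ∈ K7) : Commute (kt p) (kt q) := by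
  have h := allB_spec (allB_spec k7_comm p hp) q hq
  exact ((kt_pt hq).comm_iff (kt p)).2 (rho_of_chkPt h)

/-- **Eight pairwise commuting members of `Dlk`.** -/
theorem exists_eight : ∃ E : Set Fi24, E ⊆ Dlk ∧ (∀ a ∈ E, ∀ b ∈ E, Commute a b) ∧ E.ncard = 8 := by
  classical
  have := Cfsg.Agent.R08.FiTwentyFour.finite_Fi24
  set S : Set Fi24 := kt '' {p | p ∈ K7} with hS
  refine ⟨insert zc S, ?_, ?_, ?_⟩
  · rintro x (rfl | ⟨p, hp, rfl⟩)
    · exact zc_Dlk
    · exact kt_Dlk hp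
  · rintro a (rfl | ⟨p, hp, rfl⟩) b (rfl | ⟨q, hq, rfl⟩)
    · exact Commute.refl _
    · exact kt_zc hq
    · exact (kt_zc hp).symm
    · exact kt_comm hp hq
  · have h1 : S.ncard = 7 := by
      have h2 : ({p | p ∈ K7} : Set (List Gen × Gen × ℕ)).ncard = 7 := by
        have h3 : ({p | p ∈ K7} : Set (List Gen × Gen × ℕ)) = ((K7.toFinset : Finset _) : Set _) := by
          ext p
          simp
        rw [h3, Set.ncard_coe_finset, List.toFinset_card_of_nodup (List.Nodup.of_map _ k7_nodup)]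
        rfl
      rw [hS, Set.InjOn.ncard_image, h2]
      intro p hp q hq hpq
      have h3 := kt_pt hp
      rw [hpq] at h3
      exact List.inj_on_of_nodup_map k7_nodup hp hq (h3.uniq (kt_pt hq))
    have h2 : zc ∉ S := by
      rintro ⟨p, hp, h⟩
      have h3 := kt_pt hp
      rw [h] at h3
      exact k7_23 (List.mem_map.2 ⟨p, hp, h3.uniq isPt_zc⟩)
    rw [Set.ncard_insert_of_notMem h2 (Set.toFinite _), h1]

/-- **The width is 8.** -/
theorem width : commutingWidth Dlk = 8 := by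
  have := Cfsg.Agent.R08.FiTwentyFour.finite_Fi24
  unfold commutingWidth
  apply le_antisymm
  · apply csSup_le
    · exact ⟨0, ∅, Set.empty_subset _, Set.finite_empty, by simp, Set.ncard_empty _⟩
    · rintro n ⟨E, h1, -, h2, rfl⟩
      exact ncard_le_eight h1 h2
  · apply le_csSup
    · refine ⟨8, ?_⟩
      rintro n ⟨E, h1, -, h2, rfl⟩
      exact ncard_le_eight h1 h2
    · obtain ⟨E, h1, h2, h3⟩ := exists_eight
      exact ⟨E, h1, Set.toFinite _, h2, h3⟩

end Cfsg.Agent.H840.Width
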