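import Cfsg.Agent.H840.LkK
import Cfsg.Agent.H840.Wd
import Cfsg.Agent.Fischer.Y322Iso
import Cfsg.Agent.Fischer.Central
import Mathlib.GroupTheory.GroupAction.Quotient

/-!
# `Fi24`: the centralizer of two non-commuting transpositions `l`, `k`

* `card_Clk` : `|C(l, k)| = 29713078886400`;
* `Dlk`, `ncard_Dlk` : 3240 transpositions commute with `l` and `k`, `Clk_trans`: one class under `C(l, k)`;
* `zc = (bcdefgh)⁹`, `Clz_eq` : `C(l, k, zc) = ⟨b, …, i⟩ = ⟨zc⟩ × phi(H8)` of order `9170703360`;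
* `orbits` : its orbits on `Dlk` have lengths 1, 351 (`b`), 728 (`j`), 2160 (`c2`).
-/

set_option autoImplicit false
set_option maxRecDepth 100000
set_option exponentiation.threshold 30000

namespace Cfsg.Agent.H840.Lk

open Cfsg Cfsg.Agent.Lib.PermNet Cfsg.Agent.Lib.PermNetOrbit Cfsg.Agent.Lib.PermNetPt
open Cfsg.Agent.Fischer.Fi24RepDef Cfsg.Agent.Fischer.Fi24Rep
open Cfsg.Agent.Fischer.Fi24Spider (word_append word_cons word_nil s8 node8 lift8 s_eq_one ev_s8)
open Cfsg.Agent.Fischer.Fi24RepOrb (UG)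
open Cfsg.Agent.Fischer.Derived Cfsg.Agent.Fischer.Y322 Cfsg.Agent.Fischer.Y322Iso
open Cfsg.Agent.KFacts.FiTF.Pts Cfsg.Agent.KFacts.FiTF.FixMask
open Cfsg.Agent.KFacts.FiTF.Defs (tr)
open Cfsg.Agent.R08.FiTwentyFour (L)
open Cfsg.Agent.H840.Wd Cfsg.Agent.H840.LkK
open Cfsg.Spor (Fi24 coxLabel)
open Cfsg.Spor.Fi24 (Gen edges)
open Subgroup

/-! ### Orbit counting -/

/-- the orbit of `h` under `Y` -/
theorem card_conj {G : Type*} [Group G] [Finite G] (Y : Subgroup G) (h : G) :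
    Nat.card ↥Y = ({x | ∃ y ∈ Y, y * h * y⁻¹ = x} : Set G).ncard * Nat.card ↥(Y ⊓ centralizer ({h} : Set G)) := by
  let act : MulAction ↥Y G := MulAction.compHom G ((MulAut.conj : G →* MulAut G).comp Y.subtype)
  have hs : ∀ (y : ↥Y) (x : G), y • x = (y : G) * x * (y : G)⁻¹ := fun y x => rfl
  have h1 : MulAction.orbit ↥Y h = ({x | ∃ y ∈ Y, y * h * y⁻¹ = x} : Set G) := by
    ext x
    constructor
    · rintro ⟨y, rfl⟩
      exact ⟨y, y.2, rfl⟩
    · rintro ⟨y, hy, rfl⟩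
      exact ⟨⟨y, hy⟩, rfl⟩
  have h2 : (MulAction.stabilizer ↥Y h).index = ({x | ∃ y ∈ Y, y * h * y⁻¹ = x} : Set G).ncard := by
    rw [MulAction.index_stabilizer, h1]
  have h3 : MulAction.stabilizer ↥Y h = (centralizer ({h} : Set G)).subgroupOf Y := by
    ext y
    rw [MulAction.mem_stabilizer_iff, hs, mem_subgroupOf, mem_centralizer_singleton_iff, mul_inv_eq_iff_eq_mul]
  have h4 : Nat.card ↥(MulAction.stabilizer ↥Y h) = Nat.card ↥(Y ⊓ centralizer ({h} : Set G)) := by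
    rw [h3]
    have h5 : Nat.card ↥((centralizer ({h} : Set G)).subgroupOf Y) =
        Nat.card ↥(((centralizer ({h} : Set G)).subgroupOf Y).map Y.subtype) :=
      (card_map_of_injective Y.subtype_injective).symm
    rw [h5, subgroupOf_map_subtype, inf_comm]
  rw [← h2, ← h4, mul_comm]
  exact (Subgroup.card_mul_index _).symm

theorem card_Fi24 : Nat.card Fi24 = 2510411418381323442585600 := by
  have h1 := Subgroup.card_mul_index (commutator Fi24)
  rw [Cfsg.Agent.R08.FiTwentyFour.index_commutator, Cfsg.Agent.R08.FiTwentyFour.card_commutator] at h1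
  rw [← h1]

theorem gen_mem (x : Gen) : gen x ∈ L := Cfsg.Agent.R08.FiTwentyFour.gen_mem_L x

theorem pn_inj : ∀ x y : Gen, pn x = pn y → x = y := by
  intro x y
  cases x <;> cases y <;> simp [pn]

theorem gen_ne {x y : Gen} (h : x ≠ y) : gen x ≠ gen y := by
  intro h1
  apply h
  apply pn_inj
  have h2 := isPt_gen x
  rw [h1] at h2
  exact h2.uniq (isPt_gen y)

/-- letters commute or not according to the points -/
theorem comm_iff_pt {x : Gen} {d : Fi24} {p : ℕ} (h : IsPt d p) : Commute (gen x) d ↔ rho (gen x) p = p := h.comm_iff _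

theorem rho_gen_of {x : Gen} {p q : ℕ} (h : chkPt (nw [x] false) p q = true) : rho (gen x) p = q := by
  rw [← word_single]
  exact rho_of_chkPt h

theorem chk_lk : chkPt (nw [.l] false) 307872 307840 = true := by decide +kernel

theorem not_comm_lk : ¬ Commute (gen .l) (gen .k) := by
  intro h
  have h1 : rho (gen .l) 307872 = 307872 := (comm_iff_pt (isPt_gen .k)).1 h
  rw [rho_gen_of chk_lk] at h1
  exact absurd h1 (by norm_num)

/-- transitivity on the noncommuting pairs -/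
theorem noncomm_trans {a b a' b' : Fi24} (ha : a ∈ L) (hb : b ∈ L) (ha' : a' ∈ L) (hb' : b' ∈ L) (hn : ¬ Commute a b)
    (hn' : ¬ Commute a' b') : ∃ g, g * a * g⁻¹ = a' ∧ g * b * g⁻¹ = b' := by
  obtain ⟨R, h1, h2, h3⟩ := Cfsg.Agent.R08.FiTwentyFour.facts.exists_rank3
  have key : ∀ {a b : Fi24}, a ∈ L → b ∈ L → ¬ Commute a b → ∃ g, g * R.t R.x0 * g⁻¹ = a ∧ g * R.t R.b * g⁻¹ = b := by
    intro a b ha hb hn
    rw [← h3] at ha hb
    obtain ⟨x, rfl⟩ := ha
    obtain ⟨y, rfl⟩ := hb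
    obtain ⟨g, rfl⟩ := R.trans x
    have hn2 : ¬ R.Com (g • R.x0) y := hn
    have hn3 : ¬ R.Com R.x0 (g⁻¹ • y) := by
      intro h
      apply hn2
      have h4 := (R.com_smul g R.x0 (g⁻¹ • y)).2 h
      rwa [smul_inv_smul] at h4
    rcases R.rank3 (g⁻¹ • y) with h4 | ⟨h, hh, h4⟩ | ⟨h, hh, h4⟩
    · rw [h4] at hn3
      exact absurd (R.com_self _) hn3
    · exfalso
      apply hn3
      have h5 := (R.com_smul h R.x0 R.c).2 R.com_x0_c
      rwa [hh, h4] at h5
    · refine ⟨g * h, ?_, ?_⟩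
      · have h6 : (g * h) • R.x0 = g • R.x0 := by rw [mul_smul, hh]
        rw [← R.map_smul, h6]
      · have h6 : (g * h) • R.b = y := by rw [mul_smul, h4, smul_inv_smul]
        rw [← R.map_smul, h6]
  obtain ⟨g, hg1, hg2⟩ := key ha hb hn
  obtain ⟨k, hk1, hk2⟩ := key ha' hb' hn'
  refine ⟨k * g⁻¹, ?_, ?_⟩
  · rw [← hk1, ← hg1]; group
  · rw [← hk2, ← hg2]; group

theorem ncard_noncomm {d : Fi24} (hd : d ∈ L) : ({b | b ∈ L ∧ ¬ Commute b d} : Set Fi24).ncard = 275264 := by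
  have := Cfsg.Agent.R08.FiTwentyFour.finite_Fi24
  have h1 : L = {b | b ∈ L ∧ ¬ Commute b d} ∪ ({c | c ∈ L ∧ c ≠ d ∧ Commute c d} ∪ {d}) := by
    ext y
    constructor
    · intro hy
      by_cases h2 : Commute y d
      · by_cases h3 : y = d
        · exact Or.inr (Or.inr h3)
        · exact Or.inr (Or.inl ⟨hy, h3, h2⟩)
      · exact Or.inl ⟨hy, h2⟩
    · rintro (h2 | h2 | h2)
      · exact h2.1
      · exact h2.1
      · rw [h2]; exact hd
  have h2 : Disjoint {b | b ∈ L ∧ ¬ Commute b d} ({c | c ∈ L ∧ c ≠ d ∧ Commute c d} ∪ {d}) := by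
    rw [Set.disjoint_left]
    rintro y hy (h3 | h3)
    · exact hy.2 h3.2.2
    · exact hy.2 (by rw [h3])
  have h3 : Disjoint {c | c ∈ L ∧ c ≠ d ∧ Commute c d} {d} := by
    rw [Set.disjoint_left]
    rintro y hy h4
    exact hy.2.1 h4
  have h4 := congrArg Set.ncard h1
  rw [Set.ncard_union_eq h2, Set.ncard_union_eq h3, Cfsg.Agent.R08.FiTwentyFour.ncard_L,
    Cfsg.Agent.R08.FiTwentyFour.ncard_commuting hd, Set.ncard_singleton] at h4
  omega

/-- `C(l, k)` -/
def Clk : Subgroup Fi24 := centralizer ({gen .l, gen .k} : Set Fi24)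

theorem mem_Clk {g : Fi24} : g ∈ Clk ↔ g * gen .l = gen .l * g ∧ g * gen .k = gen .k * g := by
  rw [Clk, mem_centralizer_iff]
  constructor
  · intro h
    exact ⟨(h _ (by simp)).symm, (h _ (by simp)).symm⟩
  · rintro ⟨h1, h2⟩ y (rfl | rfl)
    · exact h1.symm
    · exact h2.symm

theorem Clk_eq : Clk = centralizer ({gen .l} : Set Fi24) ⊓ centralizer ({gen .k} : Set Fi24) := by
  ext g
  rw [mem_Clk, mem_inf, mem_centralizer_singleton_iff, mem_centralizer_singleton_iff]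

theorem card_cent_l : 306936 * Nat.card ↥(centralizer ({gen .l} : Set Fi24)) = 2510411418381323442585600 := by
  have := Cfsg.Agent.R08.FiTwentyFour.finite_Fi24
  have h1 := card_conj (⊤ : Subgroup Fi24) (gen .l)
  have h2 : ({x | ∃ y ∈ (⊤ : Subgroup Fi24), y * gen .l * y⁻¹ = x} : Set Fi24) = L := by
    ext x
    constructor
    · rintro ⟨y, -, hy⟩
      exact isConj_iff.2 ⟨y, hy⟩
    · intro hx
      obtain ⟨y, hy⟩ := isConj_iff.1 (show IsConj (gen .l) x from hx)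
      exact ⟨y, mem_top y, hy⟩
  rw [h2, Cfsg.Agent.R08.FiTwentyFour.ncard_L, top_inf_eq, Nat.card_congr Subgroup.topEquiv.toEquiv, card_Fi24] at h1
  exact h1.symm

theorem card_cent_lk : 275264 * Nat.card ↥(centralizer ({gen .l} : Set Fi24) ⊓ centralizer ({gen .k} : Set Fi24)) =
    Nat.card ↥(centralizer ({gen .l} : Set Fi24)) := by
  have := Cfsg.Agent.R08.FiTwentyFour.finite_Fi24
  have h1 := card_conj (centralizer ({gen .l} : Set Fi24)) (gen .k)
  have h2 : ({x | ∃ y ∈ centralizer ({gen .l} : Set Fi24), y * gen .k * y⁻¹ = x} : Set Fi24) =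
      {b | b ∈ L ∧ ¬ Commute b (gen .l)} := by
    ext x
    constructor
    · rintro ⟨y, hy, rfl⟩
      refine ⟨Cfsg.Agent.R08.FiTwentyFour.conj (gen_mem .k) y, fun h3 => not_comm_lk ?_⟩
      have hy' := mem_centralizer_singleton_iff.1 hy
      have h4 : y * gen .k * y⁻¹ * gen .l = gen .l * (y * gen .k * y⁻¹) := h3
      show gen .l * gen .k = gen .k * gen .l
      calc gen .l * gen .k = y⁻¹ * (y * gen .l) * gen .k := by group
        _ = y⁻¹ * (gen .l * y) * gen .k := by rw [hy']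
        _ = y⁻¹ * (gen .l * (y * gen .k * y⁻¹)) * y := by group
        _ = y⁻¹ * (y * gen .k * y⁻¹ * gen .l) * y := by rw [h4]
        _ = gen .k * y⁻¹ * (gen .l * y) := by group
        _ = gen .k * y⁻¹ * (y * gen .l) := by rw [hy']
        _ = gen .k * gen .l := by group
    · rintro ⟨hx, hn⟩
      obtain ⟨g, hg1, hg2⟩ := noncomm_trans (gen_mem .l) (gen_mem .k) (gen_mem .l) hx not_comm_lk
        (fun h => hn h.symm)
      refine ⟨g, ?_, hg2⟩
      rw [mem_centralizer_singleton_iff]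
      exact mul_inv_eq_iff_eq_mul.1 hg1
  rw [h2, ncard_noncomm (gen_mem .l)] at h1
  exact h1.symm

theorem card_Clk : Nat.card ↥Clk = 29713078886400 := by
  have h1 := card_cent_l
  have h2 := card_cent_lk
  rw [← Clk_eq] at h2
  rw [← h2] at h1
  omega

/-! ### `PΩ₇(3)` in `C(l, k)` -/

theorem sp8 : ev s8 spider ^ 10 = 1 := s_eq_one Cfsg.Agent.KFacts.FiTF.Pts.hst

/-- `(bcdefgh)⁹` -/
def zc : Fi24 := ev s8 e7w ^ 9

theorem zc_sq : zc * zc = 1 := by
  have h := Cfsg.Agent.Fischer.Central.z_sq lift8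
  rwa [pow_two] at h

theorem zc_comm (k : Fin 8) : zc * s8 k = s8 k * zc := Cfsg.Agent.Fischer.Central.central lift8 sp8 k

/-- the elements `z b, …, z i` -/
def t8 (k : Fin 8) : Fi24 := zc * s8 k

theorem t8_mul (i j : Fin 8) : t8 i * t8 j = s8 i * s8 j := by
  show zc * s8 i * (zc * s8 j) = s8 i * s8 j
  rw [zc_comm i]
  calc s8 i * zc * (zc * s8 j) = s8 i * (zc * zc) * s8 j := by simp only [mul_assoc]
    _ = s8 i * s8 j := by rw [zc_sq, mul_one]

theorem lift_t8 : M8.IsLiftable t8 := by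
  intro i j
  rw [t8_mul]
  exact lift8 i j

theorem ev_comm (w : List (Fin 8)) : Commute zc (ev s8 w) := by
  induction w with
  | nil => rw [ev_nil]; exact Commute.one_right _
  | cons i w ih =>
    rw [ev_cons]
    have h : Commute zc (s8 i) := zc_comm i
    exact h.mul_right ih

theorem ev_t8 (w : List (Fin 8)) : ev t8 w = zc ^ w.length * ev s8 w := by
  induction w with
  | nil => rw [ev_nil, ev_nil, List.length_nil, pow_zero, mul_one]
  | cons i w ih =>
    rw [ev_cons, ev_cons, ih, List.length_cons, pow_succ']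
    have h : Commute (s8 i) (zc ^ w.length) := by
      have h1 : Commute zc (s8 i) := zc_comm i
      exact (h1.symm.pow_right _)
    show zc * s8 i * (zc ^ w.length * ev s8 w) = zc * zc ^ w.length * (s8 i * ev s8 w)
    calc zc * s8 i * (zc ^ w.length * ev s8 w) = zc * (s8 i * zc ^ w.length) * ev s8 w := by simp only [mul_assoc]
      _ = zc * (zc ^ w.length * s8 i) * ev s8 w := by rw [h.eq]
      _ = zc * zc ^ w.length * (s8 i * ev s8 w) := by simp only [mul_assoc]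

theorem zc_pow_even (n : ℕ) : zc ^ (2 * n) = 1 := by rw [pow_mul, pow_two, zc_sq, one_pow]

theorem sp_t8 : ev t8 spider ^ 10 = 1 := by
  rw [ev_t8]
  have h : Commute (zc ^ spider.length) (ev s8 spider) := (ev_comm spider).pow_left _
  rw [h.mul_pow, sp8, mul_one, ← pow_mul]
  exact zc_pow_even 45

theorem e7_t8 : ev t8 e7w ^ 9 = 1 := by
  rw [ev_t8]
  have h : Commute (zc ^ e7w.length) (ev s8 e7w) := (ev_comm e7w).pow_left _
  rw [h.mul_pow]
  show (zc ^ 7) ^ 9 * zc = 1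
  rw [← pow_mul, ← pow_succ]
  exact zc_pow_even 32

/-- the homomorphism of `H8` -/
noncomputable def phi : H8 →* Fi24 := Cfsg.Agent.Fischer.Y322.lift lift_t8 sp_t8 e7_t8

theorem phi_x8 (i : Fin 8) : phi (x8 i) = t8 i := lift_x8 lift_t8 sp_t8 e7_t8 i

/-- an element commuting with `b, …, i` commutes with `zc` and the image of `phi` -/
theorem comm_zc {g : Fi24} (h : ∀ i, g * s8 i = s8 i * g) : Commute g zc := by
  have h1 : ∀ w : List (Fin 8), Commute g (ev s8 w) := by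
    intro w
    induction w with
    | nil => rw [ev_nil]; exact Commute.one_right _
    | cons i w ih =>
      rw [ev_cons]
      have h : Commute g (s8 i) := h i
      exact h.mul_right ih
  exact (h1 e7w).pow_right 9

/-! ### The transposition `zc` -/

theorem zc_word : zc = word zw := by
  unfold zc
  rw [ev_s8]
  have h : ∀ (n : ℕ) (w : List Gen), word w ^ n = word (List.replicate n w).flatten := by
    intro n w
    induction n with
    | zero => rw [pow_zero]; rfl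
    | succ n ih => rw [pow_succ', ih, List.replicate_succ, List.flatten_cons, word_append]
  exact h 9 _

theorem isPt_zc : IsPt zc 23 := by
  rw [zc_word, eq_of_eqB z_eq]
  exact isPt_tr pt_z

/-- the transposition at the point 25345 -/
def c2 : Fi24 := tr uc .a

theorem isPt_c2 : IsPt c2 25345 := isPt_tr pt_c

theorem zc_mem : zc ∈ L := isPt_zc.mem
theorem c2_mem : c2 ∈ L := isPt_c2.mem

theorem isPt_b : IsPt (gen .b) 193 := isPt_gen .b
theorem isPt_j : IsPt (gen .j) 136 := isPt_gen .j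

theorem zc_ne_one : zc ≠ 1 := by
  intro h
  have h1 := isPt_zc
  rw [h] at h1
  obtain ⟨g, -, hg⟩ := h1
  have h2 : gen .l = 1 := by
    have h3 : g * gen .l = g := by
      rw [mul_inv_eq_one] at hg
      exact hg
    exact mul_left_cancel (h3.trans (mul_one g).symm)
  apply not_comm_lk
  rw [h2]
  exact Commute.one_left _

/-! ### `⟨b, …, i⟩` -/

/-- `⟨b, …, i⟩` -/
def B8 : Subgroup Fi24 := cl AL

theorem s8_mem (k : Fin 8) : s8 k ∈ B8 := by
  apply gen_mem_cl
  revert k; decide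

theorem zc_mem_B8 : zc ∈ B8 := by
  rw [zc_word]
  apply word_mem_cl
  have h : ∀ x ∈ zw, x ∈ AL := by decide
  exact h

theorem mem_AL {x : Gen} (h : x ∈ AL) : ∃ k : Fin 8, s8 k = gen x := by
  have h1 : ∀ x ∈ AL, ∃ k : Fin 8, node8 k = x := by decide
  obtain ⟨k, rfl⟩ := h1 x h
  exact ⟨k, rfl⟩

theorem B8_comm_zc {g : Fi24} (h : g ∈ B8) : g * zc = zc * g := by
  have h1 : B8 ≤ centralizer ({zc} : Set Fi24) := by
    apply cl_le
    intro x hx
    obtain ⟨k, hk⟩ := mem_AL hx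
    rw [mem_centralizer_singleton_iff, ← hk]
    exact (zc_comm k).symm
  exact mem_centralizer_singleton_iff.1 (h1 h)

theorem B8_le_Clk : B8 ≤ Clk := by
  apply cl_le
  intro x hx
  rw [mem_Clk]
  have h : ∀ x ∈ AL, coxLabel edges x .l = 2 ∧ coxLabel edges x .k = 2 := by decide
  exact ⟨Cfsg.Agent.Fischer.Fi24Final.gen_comm (h x hx).1, Cfsg.Agent.Fischer.Fi24Final.gen_comm (h x hx).2⟩

theorem t8_mem (k : Fin 8) : t8 k ∈ B8 := B8.mul_mem zc_mem_B8 (s8_mem k)

theorem phi_mem (p : H8) : phi p ∈ B8 := by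
  have hp : p ∈ closure (Set.range x8) := by rw [closure_x8]; exact mem_top p
  induction hp using closure_induction with
  | mem y hy =>
    obtain ⟨i, rfl⟩ := hy
    rw [phi_x8]
    exact t8_mem i
  | one => rw [map_one]; exact B8.one_mem
  | mul a b _ _ ha hb => rw [map_mul]; exact B8.mul_mem ha hb
  | inv a _ ha => rw [map_inv]; exact B8.inv_mem ha

theorem t8_ne : t8 0 ≠ 1 := by
  intro h
  have h1 : zc = gen .b := by
    have h2 : s8 0 * s8 0 = 1 := Cfsg.Agent.Fischer.Fi24Final.gen_sq _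
    have h3 : zc * s8 0 = 1 := h
    have h4 := mul_eq_one_iff_eq_inv.1 h3
    rw [h4]
    exact inv_eq_of_mul_eq_one_left h2
  have h2 := isPt_zc
  rw [h1] at h2
  have h3 := h2.uniq isPt_b
  exact absurd h3 (by norm_num)

theorem phi_injective : Function.Injective phi := injective_of_ne phi ⟨x8 0, by rw [phi_x8]; exact t8_ne⟩

theorem center_H8 : center H8 = ⊥ := by
  rcases simple_H8.eq_bot_or_eq_top_of_normal (center H8) inferInstance with h | h
  · exact h
  · exfalso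
    have h1 : ∀ a b : H8, a * b = b * a := fun a b => by
      have : b ∈ center H8 := by rw [h]; exact mem_top b
      exact mem_center_iff.1 this a
    have h2 : (Nat.card H8).Prime := by
      let _ : CommGroup H8 := { (inferInstance : Group H8) with mul_comm := h1 }
      have h3 : IsSimpleGroup H8 := simple_H8
      exact IsSimpleGroup.prime_card
    rw [card_H8] at h2
    norm_num at h2

theorem zc_not_mem : zc ∉ phi.range := by
  rintro ⟨p, hp⟩
  have h1 : p ∈ center H8 := by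
    rw [mem_center_iff]
    intro q
    apply phi_injective
    rw [map_mul, map_mul, hp]
    exact B8_comm_zc (phi_mem q)
  rw [center_H8, mem_bot] at h1
  rw [h1, map_one] at hp
  exact zc_ne_one hp.symm

theorem le_card_B8 : 9170703360 ≤ Nat.card ↥B8 := by
  have := Cfsg.Agent.R08.FiTwentyFour.finite_Fi24
  have h1 : phi.range ≤ B8 := by
    rintro _ ⟨p, rfl⟩
    exact phi_mem p
  have h2 : Nat.card ↥phi.range = 4585351680 := by
    rw [← card_H8]
    exact (Nat.card_congr (MonoidHom.ofInjective phi_injective).toEquiv).symm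
  have h3 := Subgroup.relIndex_mul_relIndex (⊥ : Subgroup Fi24) phi.range B8 bot_le h1
  rw [relIndex_bot_left, relIndex_bot_left, h2, mul_comm] at h3
  have h4 : phi.range.relIndex B8 ≠ 1 := by
    intro h
    rw [relIndex_eq_one] at h
    exact zc_not_mem (h zc_mem_B8)
  have h5 : phi.range.relIndex B8 ≠ 0 := by
    intro h
    rw [h, zero_mul] at h3
    have h6 : Nat.card ↥B8 ≠ 0 := Nat.card_pos.ne'
    exact h6 h3.symm
  have h6 : 2 ≤ phi.range.relIndex B8 := by omega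
  calc 9170703360 = 2 * 4585351680 := by norm_num
    _ ≤ phi.range.relIndex B8 * 4585351680 := Nat.mul_le_mul_right _ h6
    _ = Nat.card ↥B8 := h3

/-! ### The transpositions commuting with `l` and `k` -/

/-- the transpositions commuting with `l` and `k` -/
def Dlk : Set Fi24 := {d | d ∈ L ∧ Commute (gen .l) d ∧ Commute (gen .k) d}

theorem mem_Dlk {d : Fi24} : d ∈ Dlk ↔ d ∈ L ∧ d ∈ Clk := by
  rw [mem_Clk]
  constructor
  · rintro ⟨h1, h2, h3⟩
    exact ⟨h1, h2.symm.eq, h3.symm.eq⟩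
  · rintro ⟨h1, h2, h3⟩
    exact ⟨h1, Eq.symm h2, Eq.symm h3⟩

theorem Dlk_conj {g d : Fi24} (hg : g ∈ Clk) (hd : d ∈ Dlk) : g * d * g⁻¹ ∈ Dlk := by
  rw [mem_Dlk] at hd ⊢
  exact ⟨Cfsg.Agent.R08.FiTwentyFour.conj hd.1 g, Clk.mul_mem (Clk.mul_mem hg hd.2) (Clk.inv_mem hg)⟩

theorem testBit_M (p : ℕ) : M.testBit p = true ↔ p = 23 ∨ O1.testBit p = true ∨ O2.testBit p = true ∨
    O3.testBit p = true := by
  show (2 ^ 23 ||| (O1 ||| (O2 ||| O3))).testBit p = true ↔ _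
  rw [Nat.testBit_or, Nat.testBit_or, Nat.testBit_or, Bool.or_eq_true, Bool.or_eq_true, Bool.or_eq_true,
    Nat.testBit_two_pow, decide_eq_true_eq]
  exact or_congr_left eq_comm

theorem orb1 : {q : ℕ | ∃ x ∈ B8, rho x 193 = q} = {q | O1.testBit q = true} :=
  orb_eq AL q1 (by decide) (by exact Nat.beq_refl _) cl1 tb1

theorem orb2 : {q : ℕ | ∃ x ∈ B8, rho x 136 = q} = {q | O2.testBit q = true} :=
  orb_eq AL q2 (by decide) (by exact Nat.beq_refl _) cl2 tb2

theorem orb3 : {q : ℕ | ∃ x ∈ B8, rho x 25345 = q} = {q | O3.testBit q = true} :=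
  orb_eq AL q3 (by decide) (by exact Nat.beq_refl _) cl3 tb3

theorem fixes : (rho (gen .l) 23 = 23 ∧ rho (gen .l) 193 = 193 ∧ rho (gen .l) 136 = 136 ∧ rho (gen .l) 25345 = 25345) ∧
    rho (gen .k) 23 = 23 ∧ rho (gen .k) 193 = 193 ∧ rho (gen .k) 136 = 136 ∧ rho (gen .k) 25345 = 25345 := by
  have h := fix_lk
  simp only [Bool.and_eq_true] at h
  obtain ⟨⟨a1, a2, a3, a4⟩, b1, b2, b3, b4⟩ := h
  exact ⟨⟨rho_gen_of a1, rho_gen_of a2, rho_gen_of a3, rho_gen_of a4⟩, rho_gen_of b1, rho_gen_of b2, rho_gen_of b3,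
    rho_gen_of b4⟩

theorem zc_Dlk : zc ∈ Dlk := ⟨zc_mem, (comm_iff_pt isPt_zc).2 fixes.1.1, (comm_iff_pt isPt_zc).2 fixes.2.1⟩
theorem b_Dlk : gen .b ∈ Dlk := ⟨gen_mem _, (comm_iff_pt isPt_b).2 fixes.1.2.1, (comm_iff_pt isPt_b).2 fixes.2.2.1⟩
theorem j_Dlk : gen .j ∈ Dlk := ⟨gen_mem _, (comm_iff_pt isPt_j).2 fixes.1.2.2.1, (comm_iff_pt isPt_j).2 fixes.2.2.2.1⟩
theorem c2_Dlk : c2 ∈ Dlk := ⟨c2_mem, (comm_iff_pt isPt_c2).2 fixes.1.2.2.2, (comm_iff_pt isPt_c2).2 fixes.2.2.2.2⟩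

/-- a member of `Dlk` is `zc` or conjugate under `⟨b, …, i⟩` to `b`, `j` or `c2` -/
theorem Dlk_cases {d : Fi24} (hd : d ∈ Dlk) : d = zc ∨ (∃ g ∈ B8, g * gen .b * g⁻¹ = d) ∨
    (∃ g ∈ B8, g * gen .j * g⁻¹ = d) ∨ ∃ g ∈ B8, g * c2 * g⁻¹ = d := by
  obtain ⟨p, hp⟩ := exists_pt hd.1
  have hl : rho (gen .l) p = p := (comm_iff_pt hp).1 hd.2.1
  have hk : rho (gen .k) p = p := (comm_iff_pt hp).1 hd.2.2
  have e : ∀ x, rho (gen x) p = p → wperm (nw [x] false) p = p := by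
    intro x hx
    rw [← rho_word, Wd.word_single]
    exact hx
  have h1 := sieve
  rw [seqB_eq] at h1
  have h2 : M.testBit p = true := by
    rw [← Nat.eq_of_beq_eq_true h1]
    exact sv_spec (wok _ _) bl (sv_spec (wok _ _) bl (bit hp) (e _ hl)) (e _ hk)
  rcases (testBit_M p).1 h2 with rfl | h | h | h
  · exact Or.inl (hp.inj isPt_zc)
  · right; left
    have h3 : p ∈ {q : ℕ | ∃ x ∈ B8, rho x 193 = q} := by rw [orb1]; exact h
    exact conj_of_orb isPt_b hp h3
  · right; right; left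
    have h3 : p ∈ {q : ℕ | ∃ x ∈ B8, rho x 136 = q} := by rw [orb2]; exact h
    exact conj_of_orb isPt_j hp h3
  · right; right; right
    have h3 : p ∈ {q : ℕ | ∃ x ∈ B8, rho x 25345 = q} := by rw [orb3]; exact h
    exact conj_of_orb isPt_c2 hp h3

theorem nc_zj : ¬ Commute zc (gen .j) := by
  intro h
  have h1 := (comm_iff_pt isPt_zc).1 h.symm
  rw [rho_gen_of z_j] at h1
  exact absurd h1 (by norm_num)

theorem nc_zc2 : ¬ Commute zc c2 := by
  intro h
  have h1 : rho zc 25345 = 25345 := (isPt_c2.comm_iff _).1 h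
  rw [zc_word, rho_of_chkPt z_c] at h1
  exact absurd h1 (by norm_num)

theorem nc_bc2 : ¬ Commute (gen .b) c2 := by
  intro h
  have h1 := (comm_iff_pt isPt_c2).1 h
  rw [rho_gen_of b_c] at h1
  exact absurd h1 (by norm_num)

/-- **`C(l, k)` is transitive on the transpositions commuting with `l` and `k`.** -/
theorem Clk_trans {d : Fi24} (hd : d ∈ Dlk) : ∃ g ∈ Clk, g * zc * g⁻¹ = d := by
  have tr2 : ∀ {x y z : Fi24}, (∃ g ∈ Clk, g * x * g⁻¹ = y) → (∃ g ∈ Clk, g * y * g⁻¹ = z) →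
      ∃ g ∈ Clk, g * x * g⁻¹ = z := by
    rintro x y z ⟨g, hg, rfl⟩ ⟨h, hh, rfl⟩
    exact ⟨h * g, Clk.mul_mem hh hg, by group⟩
  have up : ∀ {x y : Fi24}, (∃ g ∈ B8, g * x * g⁻¹ = y) → ∃ g ∈ Clk, g * x * g⁻¹ = y :=
    fun ⟨g, hg, h⟩ => ⟨g, B8_le_Clk hg, h⟩
  have hz := mem_Dlk.1 zc_Dlk
  have hj := mem_Dlk.1 j_Dlk
  have hc := mem_Dlk.1 c2_Dlk
  have hb := mem_Dlk.1 b_Dlk
  have h1 : ∃ g ∈ Clk, g * zc * g⁻¹ = gen .j := conj_of_nc hz.1 hj.1 nc_zj hz.2 hj.2
  have h2 : ∃ g ∈ Clk, g * zc * g⁻¹ = c2 := conj_of_nc hz.1 hc.1 nc_zc2 hz.2 hc.2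
  have h3 : ∃ g ∈ Clk, g * c2 * g⁻¹ = gen .b := conj_of_nc hc.1 hb.1 (fun h => nc_bc2 h.symm) hc.2 hb.2
  rcases Dlk_cases hd with rfl | h | h | h
  · exact ⟨1, Clk.one_mem, by group⟩
  · exact tr2 h2 (tr2 h3 (up h))
  · exact tr2 h1 (up h)
  · exact tr2 h2 (up h)

theorem TS_M : TS M = Dlk := by
  ext d
  constructor
  · rintro ⟨p, hp, hd⟩
    have key : ∀ {x : Fi24} {q : ℕ}, x ∈ Dlk → IsPt x q → (∃ y ∈ B8, rho y q = p) → d ∈ Dlk := by
      intro x q hx hq h
      obtain ⟨g, hg, rfl⟩ := conj_of_orb hq hd h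
      exact Dlk_conj (B8_le_Clk hg) hx
    rcases (testBit_M p).1 hp with rfl | h | h | h
    · rw [hd.inj isPt_zc]
      exact zc_Dlk
    · have h3 : p ∈ {q : ℕ | ∃ x ∈ B8, rho x 193 = q} := by rw [orb1]; exact h
      exact key b_Dlk isPt_b h3
    · have h3 : p ∈ {q : ℕ | ∃ x ∈ B8, rho x 136 = q} := by rw [orb2]; exact h
      exact key j_Dlk isPt_j h3
    · have h3 : p ∈ {q : ℕ | ∃ x ∈ B8, rho x 25345 = q} := by rw [orb3]; exact h
      exact key c2_Dlk isPt_c2 h3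
  · intro hd
    obtain ⟨p, hp⟩ := exists_pt hd.1
    have hl : rho (gen .l) p = p := (comm_iff_pt hp).1 hd.2.1
    have hk : rho (gen .k) p = p := (comm_iff_pt hp).1 hd.2.2
    have e : ∀ x, rho (gen x) p = p → wperm (nw [x] false) p = p := by
      intro x hx
      rw [← rho_word, Wd.word_single]
      exact hx
    have h1 := sieve
    rw [seqB_eq] at h1
    refine ⟨p, ?_, hp⟩
    rw [← Nat.eq_of_beq_eq_true h1]
    exact sv_spec (wok _ _) bl (sv_spec (wok _ _) bl (bit hp) (e _ hl)) (e _ hk)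

theorem M_UG {p : ℕ} (h : M.testBit p = true) : UG.testBit p = true := by
  have h1 : M &&& UG = M := Nat.eq_of_beq_eq_true subM
  have h2 := congrArg (fun x => Nat.testBit x p) h1
  simp only [Nat.testBit_and, h, Bool.true_and] at h2
  exact h2

theorem ncard_Dlk : Dlk.ncard = 3240 := by
  rw [← TS_M, ncard_TS fun p => M_UG]
  exact Cfsg.Agent.Lib.PermNetOrbit.ncard_testBit ltM pcM

/-- `C(l, k, zc)` -/
def Clz : Subgroup Fi24 := Clk ⊓ centralizer ({zc} : Set Fi24)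

theorem card_Clz : Nat.card ↥Clz = 9170703360 := by
  have := Cfsg.Agent.R08.FiTwentyFour.finite_Fi24
  have h1 := card_conj Clk zc
  have h2 : ({x | ∃ y ∈ Clk, y * zc * y⁻¹ = x} : Set Fi24) = Dlk := by
    ext x
    constructor
    · rintro ⟨y, hy, rfl⟩
      exact Dlk_conj hy zc_Dlk
    · intro hx
      exact Clk_trans hx
  rw [h2, ncard_Dlk, card_Clk] at h1
  show Nat.card ↥(Clk ⊓ centralizer ({zc} : Set Fi24)) = _
  omega

/-- **`C(l, k, zc) = ⟨b, …, i⟩`.** -/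
theorem Clz_eq : Clz = B8 := by
  have := Cfsg.Agent.R08.FiTwentyFour.finite_Fi24
  symm
  have h1 : B8 ≤ Clz := le_inf B8_le_Clk fun g hg => mem_centralizer_singleton_iff.2 (B8_comm_zc hg)
  exact Subgroup.eq_of_le_of_card_ge h1 (by rw [card_Clz]; exact le_card_B8)

theorem card_B8 : Nat.card ↥B8 = 9170703360 := by rw [← Clz_eq, card_Clz]

/-- the orbit of `j` -/
theorem TS_2 : TS O2 = ({x | ∃ y ∈ B8, y * gen .j * y⁻¹ = x} : Set Fi24) := by
  ext d
  constructor
  · rintro ⟨p, hp, hd⟩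
    have h3 : p ∈ {q : ℕ | ∃ x ∈ B8, rho x 136 = q} := by rw [orb2]; exact hp
    exact conj_of_orb isPt_j hd h3
  · rintro ⟨g, hg, rfl⟩
    refine ⟨rho g 136, ?_, isPt_j.conj g⟩
    have h3 : rho g 136 ∈ {q : ℕ | ∃ x ∈ B8, rho x 136 = q} := ⟨g, hg, rfl⟩
    rw [orb2] at h3
    exact h3

theorem TS_3 : TS O3 = ({x | ∃ y ∈ B8, y * c2 * y⁻¹ = x} : Set Fi24) := by
  ext d
  constructor
  · rintro ⟨p, hp, hd⟩
    have h3 : p ∈ {q : ℕ | ∃ x ∈ B8, rho x 25345 = q} := by rw [orb3]; exact hp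
    exact conj_of_orb isPt_c2 hd h3
  · rintro ⟨g, hg, rfl⟩
    refine ⟨rho g 25345, ?_, isPt_c2.conj g⟩
    have h3 : rho g 25345 ∈ {q : ℕ | ∃ x ∈ B8, rho x 25345 = q} := ⟨g, hg, rfl⟩
    rw [orb3] at h3
    exact h3

/-- `C(l, k, zc, j)` -/
def Cj : Subgroup Fi24 := Clz ⊓ centralizer ({gen .j} : Set Fi24)

/-- `C(l, k, zc, c2)` -/
def Cc : Subgroup Fi24 := Clz ⊓ centralizer ({c2} : Set Fi24)

theorem card_Cj : Nat.card ↥Cj = 12597120 := by
  have := Cfsg.Agent.R08.FiTwentyFour.finite_Fi24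
  have h1 := card_conj Clz (gen .j)
  rw [card_Clz, Clz_eq, ← TS_2, ncard_TS (fun p hp => M_UG ((testBit_M p).2 (Or.inr (Or.inr (Or.inl hp))))),
    Cfsg.Agent.Lib.PermNetOrbit.ncard_testBit lt2 pc2] at h1
  show Nat.card ↥(Clz ⊓ centralizer ({gen .j} : Set Fi24)) = _
  rw [Clz_eq]
  omega

theorem card_Cc : Nat.card ↥Cc = 4245696 := by
  have := Cfsg.Agent.R08.FiTwentyFour.finite_Fi24
  have h1 := card_conj Clz c2
  rw [card_Clz, Clz_eq, ← TS_3, ncard_TS (fun p hp => M_UG ((testBit_M p).2 (Or.inr (Or.inr (Or.inr hp))))),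
    Cfsg.Agent.Lib.PermNetOrbit.ncard_testBit lt3 pc3] at h1
  show Nat.card ↥(Clz ⊓ centralizer ({c2} : Set Fi24)) = _
  rw [Clz_eq]
  omega

end Cfsg.Agent.H840.Lk
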