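import Cfsg.Agent.H840.Wd

/-!
# `Fi24`: the transpositions commuting with `l` and `k`, kernel checks

The orbits of `⟨b, …, i⟩` on the points of the transpositions commuting with `l` and `k`: the point 23 of
`(bcdefgh)⁹`, and orbits of lengths 351 (`b`), 728 (`j`), 2160 (the point 25345).
-/

set_option autoImplicit false
set_option maxRecDepth 100000
set_option Elab.async false

namespace Cfsg.Agent.H840.LkK

open Cfsg Cfsg.Agent.Lib.PermNet Cfsg.Agent.Lib.PermNetOrbit Cfsg.Agent.Lib.PermNetPt
open Cfsg.Agent.Fischer.Fi24RepDef Cfsg.Agent.Fischer.Fi24Rep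
open Cfsg.Agent.Fischer.Fi24RepOrb (UG)
open Cfsg.Agent.KFacts.FiTF.FixMask
open Cfsg.Agent.H840.Wd
open Cfsg.Spor (Fi24)
open Cfsg.Spor.Fi24 (Gen)

/-- the letters `b, …, i` -/
def AL : List Gen := [.b, .c, .d, .e, .f, .g, .h, .i]

def q1 : List Gen := [.c, .b, .d, .e, .h, .c, .f, .i, .d, .g, .e, .h, .c, .d, .f, .e, .c, .h, .b, .i, .f, .d, .g,
  .c, .b]

def q2 : List Gen := [.g, .f, .e, .d, .c, .h, .b, .i, .d, .e, .c, .f, .h, .d, .g, .e, .c, .h, .b, .f, .d, .i, .c,
  .g, .e, .b, .d, .f, .h, .c, .e, .d, .e, .f, .g]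

def q3 : List Gen := [.b, .c, .d, .e, .g, .h, .f, .i, .d, .c, .e, .h, .d, .b, .c, .h, .e, .b]

/-- the orbit of the point of `b` -/
noncomputable def O1 : ℕ := sat (nws (sg q1)) 1 (2 ^ 193)
/-- the orbit of the point of `j` -/
noncomputable def O2 : ℕ := sat (nws (sg q2)) 1 (2 ^ 136)
/-- the orbit of the point 25345 -/
noncomputable def O3 : ℕ := sat (nws (sg q3)) 1 (2 ^ 25345)

/-- all the points fixed by `l` and `k` -/
noncomputable def M : ℕ := Nat.lor (Nat.pow 2 23) (Nat.lor O1 (Nat.lor O2 O3))

theorem cl1 : closedB (nws (sg AL)) O1 = true := by decide +kernel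
theorem cl2 : closedB (nws (sg AL)) O2 = true := by decide +kernel
theorem cl3 : closedB (nws (sg AL)) O3 = true := by decide +kernel
theorem tb1 : tb O1 193 = true := by decide +kernel
theorem tb2 : tb O2 136 = true := by decide +kernel
theorem tb3 : tb O3 25345 = true := by decide +kernel
theorem pc2 : Nat.beq (pc 14 O2) 728 = true := by decide +kernel
theorem pc3 : Nat.beq (pc 15 O3) 2160 = true := by decide +kernel
theorem pcM : Nat.beq (pc 15 M) 3240 = true := by decide +kernel
theorem lt2 : Nat.beq (Nat.shiftRight O2 (Nat.pow 2 14)) 0 = true := by decide +kernel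
theorem lt3 : Nat.beq (Nat.shiftRight O3 (Nat.pow 2 15)) 0 = true := by decide +kernel
theorem ltM : Nat.beq (Nat.shiftRight M (Nat.pow 2 15)) 0 = true := by decide +kernel
theorem subM : Nat.beq (Nat.land M UG) M = true := by decide +kernel

theorem sieve : seqB (sv (nw [.l] false) bl UG) (fun A => Nat.beq (sv (nw [.k] false) bl A) M) = true := by
  decide +kernel

/-- the word of `(bcdefgh)⁹` -/
def zw : List Gen := (List.replicate 9 [Gen.b, .c, .d, .e, .f, .g, .h]).flatten

/-- the word conjugating `b` into `(bcdefgh)⁹` -/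
def uz : List Gen := [.j, .g, .f, .e, .d, .h, .c, .d, .e, .b, .c, .d, .h, .f, .g, .e, .f, .d, .e, .c, .d, .h, .j,
  .g, .f, .e, .d, .c]

/-- the word conjugating `a` into the transposition at the point 25345 -/
def uc : List Gen := [.a, .b, .c, .d, .h, .i, .e, .d, .h, .f, .g, .e, .f, .c, .d, .e, .b, .c, .d, .h, .i, .f, .d,
  .e, .b, .c, .d, .h, .j, .g, .f, .e, .d, .c, .b]

theorem z_eq : eqB zw (uz ++ Gen.b :: uz.reverse) = true := by decide +kernel

theorem pt_z : chkPt (nw uz false) 193 23 = true := by decide +kernel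

theorem pt_c : chkPt (nw uc false) 1 25345 = true := by decide +kernel

/-- `l`, `k` fix the points 23, 193, 136, 25345 -/
theorem fix_lk : and (and (chkPt (nw [.l] false) 23 23) (and (chkPt (nw [.l] false) 193 193)
    (and (chkPt (nw [.l] false) 136 136) (chkPt (nw [.l] false) 25345 25345))))
    (and (chkPt (nw [.k] false) 23 23) (and (chkPt (nw [.k] false) 193 193)
    (and (chkPt (nw [.k] false) 136 136) (chkPt (nw [.k] false) 25345 25345)))) = true := by decide +kernel

theorem z_j : chkPt (nw [.j] false) 23 156 = true := by decide +kernel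

theorem z_c : chkPt (nw zw false) 25345 25367 = true := by decide +kernel

theorem b_c : chkPt (nw [.b] false) 25345 26017 = true := by decide +kernel

end Cfsg.Agent.H840.LkK
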